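import Groth.Agent.EGA43.Unibranch.Poly
import Mathlib.AlgebraicGeometry.AffineSpace
import Mathlib.AlgebraicGeometry.Properties

/-!
# Affine spaces over geometrically unibranch schemes
-/

set_option autoImplicit false
set_option backward.isDefEq.respectTransparency false
set_option linter.style.haveILetI false

universe u

open CategoryTheory AlgebraicGeometry Groth.Agent

namespace Groth.Agent.EGA43.Unibranch

attribute [local instance] MvPolynomial.algebraMvPolynomial in
/-- A localisation of `R[T]` at a prime is geometrically unibranch if the corresponding local ring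
of `R` is. -/
theorem isGeomUnibranch_localization_mvPolynomial {R : Type u} [CommRing R] (e : ℕ) (p : Ideal R)
    [p.IsPrime] (q : Ideal (MvPolynomial (ULift.{u} (Fin e)) R)) [q.IsPrime]
    (hpq : q.comap MvPolynomial.C = p) (A : Type u) [CommRing A] [IsLocalRing A] [Algebra R A]
    [IsLocalization.AtPrime A p] (hA : CAlg2.IsGeomUnibranch A) (T : Type u) [CommRing T]
    [IsLocalRing T] [Algebra (MvPolynomial (ULift.{u} (Fin e)) R) T]
    [IsLocalization.AtPrime T q] : CAlg2.IsGeomUnibranch T := by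
  let P := MvPolynomial (ULift.{u} (Fin e)) R
  let Q := MvPolynomial (ULift.{u} (Fin e)) A
  let M : Submonoid P := p.primeCompl.map MvPolynomial.C
  haveI : IsLocalization M Q := MvPolynomial.isLocalization p.primeCompl A
  have hdisj : Disjoint (M : Set P) (q : Set P) := by
    rw [Set.disjoint_left]
    rintro _ ⟨s, hs, rfl⟩ h
    exact hs (hpq ▸ h : s ∈ p)
  let q1 : Ideal Q := q.map (algebraMap P Q)
  haveI hq1 : q1.IsPrime := IsLocalization.isPrime_of_isPrime_disjoint M Q q inferInstance hdisj
  have hq : q1.comap (algebraMap P Q) = q :=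
    IsLocalization.under_map_of_isPrime_disjoint M Q inferInstance hdisj
  have hmax : q1.comap MvPolynomial.C = IsLocalRing.maximalIdeal A := by
    refine le_antisymm (IsLocalRing.le_maximalIdeal (Ideal.IsPrime.ne_top inferInstance)) ?_
    rw [← IsLocalization.AtPrime.map_eq_maximalIdeal p A, Ideal.map_le_iff_le_comap]
    intro x hx
    show MvPolynomial.C (algebraMap R A x) ∈ q1
    rw [← MvPolynomial.map_C]
    exact Ideal.mem_map_of_mem (algebraMap P Q) (hpq ▸ hx : x ∈ q.comap MvPolynomial.C)
  have hT := isGeomUnibranch_mvPolynomial hA e q1 hmax (Localization.AtPrime q1)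
  haveI : IsLocalization.AtPrime (Localization.AtPrime q1) (q1.comap (algebraMap P Q)) :=
    IsLocalization.isLocalization_isLocalization_atPrime_isLocalization M _ q1
  haveI : IsLocalization q.primeCompl (Localization.AtPrime q1) := by
    have h : q.primeCompl = (q1.comap (algebraMap P Q)).primeCompl := by
      ext x; exact not_congr (by rw [hq])
    exact h ▸ ‹IsLocalization.AtPrime (Localization.AtPrime q1) (q1.comap (algebraMap P Q))›
  exact isGeomUnibranch_of_ringEquiv
    (IsLocalization.algEquiv q.primeCompl (Localization.AtPrime q1) T).toRingEquiv hT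

/-- Affine spaces over a scheme which is geometrically unibranch at `y` are geometrically unibranch
over `y`. -/
theorem isGeomUnibranch_stalk_affineSpace {Y : Scheme.{u}} (n : ℕ) (y' : ↥𝔸(ULift.{u} (Fin n); Y))
    (hy : CAlg2.IsGeomUnibranch (Y.presheaf.stalk ((𝔸(ULift.{u} (Fin n); Y) ↘ Y).base y'))) :
    CAlg2.IsGeomUnibranch ((𝔸(ULift.{u} (Fin n); Y)).presheaf.stalk y') := by
  let t := 𝔸(ULift.{u} (Fin n); Y) ↘ Y
  obtain ⟨_, ⟨V, hV, rfl⟩, hyV, -⟩ :=
    Y.isBasis_affineOpens.exists_subset_of_mem_open (Set.mem_univ (t y')) isOpen_univ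
  let g : Spec Γ(Y, V) ⟶ Y := hV.fromSpec
  let j : Spec (.of (MvPolynomial (ULift.{u} (Fin n)) Γ(Y, V))) ⟶ 𝔸(ULift.{u} (Fin n); Y) :=
    (AffineSpace.SpecIso (ULift.{u} (Fin n)) Γ(Y, V)).inv ≫ AffineSpace.map _ g
  haveI : IsOpenImmersion (AffineSpace.map (ULift.{u} (Fin n)) g) :=
    MorphismProperty.of_isPullback (AffineSpace.isPullback_map g).flip inferInstance
  have hj : j ≫ t = Spec.map (CommRingCat.ofHom MvPolynomial.C) ≫ g := by
    rw [Category.assoc, AffineSpace.map_over, AffineSpace.SpecIso_inv_over_assoc]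
  obtain ⟨w, rfl⟩ : y' ∈ Set.range j := by
    obtain ⟨z, hz, -⟩ := Scheme.Pullback.exists_preimage_pullback (f := t) (g := g) y'
      (hV.primeIdealOf ⟨t y', hyV⟩) (hV.fromSpec_primeIdealOf ⟨t y', hyV⟩).symm
    refine ⟨(AffineSpace.SpecIso (ULift.{u} (Fin n)) Γ(Y, V)).hom
      ((AffineSpace.isPullback_map g).isoPullback.inv z), ?_⟩
    rw [← Scheme.Hom.comp_apply, ← Scheme.Hom.comp_apply, Iso.hom_inv_id_assoc,
      IsPullback.isoPullback_inv_fst, hz]
  let p := (Spec.map (CommRingCat.ofHom
    (MvPolynomial.C (R := Γ(Y, V)) (σ := ULift.{u} (Fin n))))).base w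
  have hA : CAlg2.IsGeomUnibranch ((Spec Γ(Y, V)).presheaf.stalk p) := by
    refine isGeomUnibranch_of_ringEquiv ?_ hy
    refine RingEquiv.trans ?_ (asIso (g.stalkMap p)).commRingCatIsoToRingEquiv
    refine (Y.presheaf.stalkCongr (.of_eq ?_)).commRingCatIsoToRingEquiv
    rw [← Scheme.Hom.comp_apply, hj, Scheme.Hom.comp_apply]
  let _ : Algebra Γ(Y, V) ((Spec Γ(Y, V)).presheaf.stalk p) := StructureSheaf.stalkAlgebra _ p
  haveI : IsLocalization.AtPrime ((Spec Γ(Y, V)).presheaf.stalk p) p.asIdeal :=
    StructureSheaf.IsLocalization.to_stalk _ p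
  let P := CommRingCat.of (MvPolynomial (ULift.{u} (Fin n)) Γ(Y, V))
  let _ : Algebra P ((Spec P).presheaf.stalk w) := StructureSheaf.stalkAlgebra _ w
  haveI : IsLocalization.AtPrime ((Spec P).presheaf.stalk w) w.asIdeal :=
    StructureSheaf.IsLocalization.to_stalk _ w
  have h := isGeomUnibranch_localization_mvPolynomial n p.asIdeal w.asIdeal rfl
    ((Spec Γ(Y, V)).presheaf.stalk p) hA ((Spec P).presheaf.stalk w)
  exact isGeomUnibranch_of_ringEquiv (asIso (j.stalkMap w)).commRingCatIsoToRingEquiv.symm h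

end Groth.Agent.EGA43.Unibranch
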