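import Groth.Agent.EGA43.Unibranch.GoingDown
import Groth.Agent.H8ProCons.Image
import Mathlib.RingTheory.ZariskisMainTheorem
import Mathlib.RingTheory.Localization.Integral
import Mathlib.AlgebraicGeometry.Morphisms.QuasiFinite

/-!
# Openness of quasi-finite dominant morphisms at unibranch points (EGA IV 14.4.1.2)
-/

set_option autoImplicit false
set_option backward.isDefEq.respectTransparency false
set_option linter.style.haveILetI false

universe u

open CategoryTheory AlgebraicGeometry

namespace Groth.Agent.EGA43.Unibranch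

open Groth.Agent

/-- Generizations lift at quasi-finite points of dominant algebras without zero divisors over a ring
which is unibranch at the image. -/
theorem exists_le_comap_eq_of_quasiFinite {A B L : Type u} [CommRing A] [CommRing B] [IsDomain B]
    [Algebra A B] [Algebra.FiniteType A B] (hker : RingHom.ker (algebraMap A B) = nilradical A)
    (q : Ideal B) [q.IsPrime] [Algebra.WeaklyQuasiFiniteAt A q] (p : Ideal A) [p.IsPrime]
    (hqp : q.comap (algebraMap A B) = p) [CommRing L] [IsLocalRing L] [Algebra A L]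
    [IsLocalization.AtPrime L p] (hL : CAlg2.IsUnibranch L) (p' : Ideal A) [p'.IsPrime] (hp' : p' ≤ p) :
    ∃ q' : Ideal B, q'.IsPrime ∧ q' ≤ q ∧ q'.comap (algebraMap A B) = p' := by
  obtain ⟨r, hr, hbij⟩ := Algebra.ZariskisMainProperty.of_finiteType_of_weaklyQuasiFiniteAt (R := A) q
  let C := integralClosure A B
  haveI : Algebra.IsIntegral A C := inferInstance
  let D := Localization (Algebra.algebraMapSubmonoid C p.primeCompl)
  have hkerC : RingHom.ker (algebraMap A C) = nilradical A := by
    rw [← hker]; ext a; simp [RingHom.mem_ker, ← Subalgebra.coe_eq_zero]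
  have hle : Algebra.algebraMapSubmonoid C p.primeCompl ≤ nonZeroDivisors C := by
    rintro _ ⟨a, ha, rfl⟩
    refine mem_nonZeroDivisors_of_ne_zero fun h => ha ?_
    have : a ∈ nilradical A := hkerC.le h
    exact nilradical_le_prime p this
  haveI : IsDomain D := IsLocalization.isDomain_localization hle
  let _ : Algebra L D := (IsLocalization.map D (algebraMap A C)
    (show p.primeCompl ≤ (Algebra.algebraMapSubmonoid C p.primeCompl).comap _ from
      p.primeCompl.le_comap_map) : L →+* D).toAlgebra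
  haveI : Algebra.IsIntegral L D := ⟨(isIntegral_localization (R := A) (S := C) (M := p.primeCompl) (Rₘ := L) (Sₘ := D))⟩
  have hkerD : RingHom.ker (algebraMap L D) = nilradical L := by
    refine le_antisymm (fun z hz => ?_) (fun z hz => ?_)
    · obtain ⟨a, s, rfl⟩ := IsLocalization.exists_mk'_eq p.primeCompl z
      rw [RingHom.mem_ker, RingHom.algebraMap_toAlgebra, IsLocalization.map_mk',
        IsLocalization.mk'_eq_zero_iff] at hz
      obtain ⟨⟨m, hm⟩, h⟩ := hz
      have h0 : algebraMap A C a = 0 := (mem_nonZeroDivisors_iff.1 (hle hm)).2 _ (by rw [mul_comm]; exact h)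
      obtain ⟨n, hn⟩ := (hkerC.le h0 : a ∈ nilradical A)
      rw [mem_nilradical, IsLocalization.mk'_eq_mul_mk'_one]
      exact Commute.isNilpotent_mul_right (Commute.all _ _) ⟨n, by rw [← map_pow, hn, map_zero]⟩
    · exact RingHom.mem_ker.2 (IsNilpotent.eq_zero ((mem_nilradical.1 hz).map (algebraMap L D)))
  let qC : Ideal C := q.comap C.val.toRingHom
  have hdisj : ∀ (Q : Ideal C), Q.comap (algebraMap A C) ≤ p →
      Disjoint (Algebra.algebraMapSubmonoid C p.primeCompl : Set C) (Q : Set C) := fun Q hQ =>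
    Set.disjoint_left.2 fun _ ⟨a, ha, he⟩ h => ha (hQ (show algebraMap A C a ∈ Q from he ▸ h))
  have hqC : qC.comap (algebraMap A C) = p := by rw [← hqp, Ideal.comap_comap]; rfl
  let n : Ideal D := qC.map (algebraMap C D)
  haveI hnp : n.IsPrime := IsLocalization.isPrime_of_isPrime_disjoint (Algebra.algebraMapSubmonoid C p.primeCompl) D qC inferInstance (hdisj qC hqC.le)
  have hAD : ∀ a, algebraMap L D (algebraMap A L a) = algebraMap C D (algebraMap A C a) := fun a => by
    rw [RingHom.algebraMap_toAlgebra, IsLocalization.map_eq]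
  have hnC : n.comap (algebraMap C D) = qC :=
    IsLocalization.under_map_of_isPrime_disjoint _ D inferInstance (hdisj qC hqC.le)
  have hcmp : ∀ Q : Ideal D, (Q.comap (algebraMap L D)).comap (algebraMap A L) =
      (Q.comap (algebraMap C D)).comap (algebraMap A C) := fun Q => by
    ext a; simp only [Ideal.mem_comap, hAD]
  have hn : n.comap (algebraMap L D) = IsLocalRing.maximalIdeal L := by
    rw [← IsLocalization.map_under p.primeCompl L (n.comap (algebraMap L D)), Ideal.under_def, hcmp, hnC,
      hqC, IsLocalization.AtPrime.map_eq_maximalIdeal p L]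
  let pL := p'.map (algebraMap A L)
  have hdp : Disjoint (p.primeCompl : Set A) (p' : Set A) := Set.disjoint_left.2 fun a ha h => ha (hp' h)
  haveI : pL.IsPrime := IsLocalization.isPrime_of_isPrime_disjoint p.primeCompl L p' inferInstance hdp
  obtain ⟨Q, hQ, hQn, hQp⟩ := exists_le_comap_eq_of_isUnibranch hL hkerD n hn pL
  haveI := hQ
  let Q' : Ideal C := Q.comap (algebraMap C D)
  have hQ'p : Q'.comap (algebraMap A C) = p' := by
    rw [← hcmp, hQp]
    exact IsLocalization.under_map_of_isPrime_disjoint p.primeCompl L inferInstance hdp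
  have hrQ : r ∉ Q' := fun h => hr (show r ∈ qC from hnC ▸ (Ideal.comap_mono hQn h))
  let K := FractionRing (C ⧸ Q')
  let ev : C →+* K := (algebraMap (C ⧸ Q') K).comp (Ideal.Quotient.mk Q')
  have hev : ∀ c, ev c = 0 ↔ c ∈ Q' := fun c => by
    simp [ev, Ideal.Quotient.eq_zero_iff_mem]
  let e := RingEquiv.ofBijective _ hbij
  let φ : Localization.Away r →+* K :=
    IsLocalization.Away.lift r (g := ev) (isUnit_iff_ne_zero.2 fun h => hrQ ((hev r).1 h))
  let ψ : B →+* K := φ.comp ((e.symm.toRingHom).comp (algebraMap B (Localization.Away (C.val.toRingHom r))))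
  have hψ : ∀ c : C, ψ c.1 = ev c := fun c => by
    show φ (e.symm (algebraMap B _ (C.val.toRingHom c))) = _
    have : e (algebraMap C (Localization.Away r) c) = algebraMap B _ (C.val.toRingHom c) := by
      show Localization.awayMap C.val.toRingHom r _ = _
      exact IsLocalization.map_eq _ c
    rw [← this, e.symm_apply_apply]
    exact IsLocalization.Away.lift_eq r _ c
  have hker' : ∀ c : C, c.1 ∈ RingHom.ker ψ ↔ c ∈ Q' := fun c => by
    rw [RingHom.mem_ker, hψ, hev]
  refine ⟨RingHom.ker ψ, RingHom.ker_isPrime ψ, fun b hb => ?_, ?_⟩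
  · -- `r ^ m * b` is integral
    obtain ⟨⟨c, _, m, rfl⟩, hc⟩ := IsLocalization.surj (Submonoid.powers r) (e.symm (algebraMap B _ b))
    have h2 := congrArg e hc
    rw [map_mul, e.apply_symm_apply] at h2
    have he : ∀ z : C, e (algebraMap C (Localization.Away r) z) = algebraMap B _ (C.val.toRingHom z) := fun z => by
      show Localization.awayMap C.val.toRingHom r _ = _
      exact IsLocalization.map_eq _ z
    rw [he, he, ← map_mul] at h2
    have hr0 : C.val.toRingHom r ≠ 0 := fun h => hr (by rw [show (r : B) = 0 from h]; exact zero_mem q)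
    have h3 : b * C.val.toRingHom (r ^ m) = C.val.toRingHom c :=
      IsLocalization.injective (Localization.Away (C.val.toRingHom r))
        (powers_le_nonZeroDivisors_of_noZeroDivisors hr0) h2
    have h4 : (c : B) ∈ RingHom.ker ψ := by
      show C.val.toRingHom c ∈ _
      rw [← h3]; exact Ideal.mul_mem_right _ _ hb
    have h5 : c ∈ qC := hnC ▸ Ideal.comap_mono hQn ((hker' c).1 h4)
    have h6 : b * C.val.toRingHom (r ^ m) ∈ q := by rw [h3]; exact h5
    refine (Ideal.IsPrime.mem_or_mem ‹q.IsPrime› h6).resolve_right fun h => hr ?_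
    rw [map_pow] at h
    exact Ideal.IsPrime.mem_of_pow_mem ‹q.IsPrime› m h
  · ext a
    rw [Ideal.mem_comap, ← hQ'p, Ideal.mem_comap]
    exact hker' (algebraMap A C a)

variable {X Y : Scheme.{u}}

theorem primeIdealOf_le_iff' {U : X.Opens} (hU : IsAffineOpen U) (a b : U) :
    (hU.primeIdealOf a).asIdeal ≤ (hU.primeIdealOf b).asIdeal ↔ a.1 ⤳ b.1 := by
  refine (PrimeSpectrum.le_iff_specializes (hU.primeIdealOf a) (hU.primeIdealOf b)).trans ?_
  refine hU.fromSpec.isOpenEmbedding.isInducing.specializes_iff.symm.trans ?_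
  rw [hU.fromSpec_primeIdealOf, hU.fromSpec_primeIdealOf]

theorem primeIdealOf_genericPoint [IrreducibleSpace X] {U : X.Opens} (hU : IsAffineOpen U)
    (hη : genericPoint X ∈ U) : (hU.primeIdealOf ⟨genericPoint X, hη⟩).asIdeal = nilradical Γ(X, U) := by
  refine le_antisymm ?_ (nilradical_le_prime _)
  rw [nilradical_eq_sInf]
  refine le_sInf fun J hJ => ?_
  have hm : hU.fromSpec ⟨J, hJ⟩ ∈ U := hU.range_fromSpec.le ⟨_, rfl⟩
  have := (primeIdealOf_le_iff' hU ⟨_, hη⟩ ⟨_, hm⟩).2 (genericPoint_specializes _)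
  rwa [show hU.primeIdealOf ⟨_, hm⟩ = ⟨J, hJ⟩ from
    hU.fromSpec.isOpenEmbedding.injective (hU.fromSpec_primeIdealOf _)] at this

theorem map_genericPoint_of_isDominant [IrreducibleSpace X] [IrreducibleSpace Y] (f : X ⟶ Y) [IsDominant f] :
    f (genericPoint X) = genericPoint Y := by
  have h := (genericPoint_spec X).image f.continuous
  have h2 : closure (f '' (⊤ : Set X)) = ⊤ := by
    rw [Set.top_eq_univ, Set.image_univ]; exact f.denseRange.closure_range
  refine IsGenericPoint.eq ?_ (genericPoint_spec Y)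
  have h3 := h2
  unfold IsGenericPoint at h ⊢
  exact h.trans h3

/-- A dominant locally quasi-finite morphism of irreducible schemes lifts generizations at points
over unibranch points. -/
theorem exists_generization_of_isUnibranch [IrreducibleSpace X] [IrreducibleSpace Y] (f : X ⟶ Y)
    [LocallyOfFiniteType f] [IsDominant f] (x : X) [LocallyQuasiFinite f]
    (hy : CAlg2.IsUnibranch (Y.presheaf.stalk (f x))) {y' : Y} (h : y' ⤳ f x) :
    ∃ x' : X, x' ⤳ x ∧ f x' = y' := by
  obtain ⟨V, hV, hxV, -⟩ := exists_isAffineOpen_mem_and_subset (x := f x) (U := ⊤) trivial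
  obtain ⟨U, hU, hxU, e⟩ := exists_isAffineOpen_mem_and_subset (x := x) (U := f ⁻¹ᵁ V) hxV
  have hηU : genericPoint X ∈ U := (genericPoint_specializes x).mem_open U.isOpen hxU
  algebraize [(f.appLE V U e).hom]
  haveI : Algebra.FiniteType Γ(Y, V) Γ(X, U) := f.finiteType_appLE hV hU e
  haveI : Algebra.QuasiFinite Γ(Y, V) Γ(X, U) := LocallyQuasiFinite.quasiFinite_appLE (f := f) hV hU e
  let P := nilradical Γ(X, U)
  haveI : P.IsPrime := by
    show (nilradical Γ(X, U)).IsPrime
    rw [← primeIdealOf_genericPoint hU hηU]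
    infer_instance
  have hPc : P.comap (algebraMap Γ(Y, V) Γ(X, U)) = nilradical Γ(Y, V) := by
    show (nilradical _).comap _ = _
    rw [← primeIdealOf_genericPoint hU hηU, RingHom.algebraMap_toAlgebra,
      ← primeIdealOf_genericPoint hV ((genericPoint_specializes _).mem_open V.isOpen hxV)]
    refine (congrArg PrimeSpectrum.asIdeal (IsAffineOpen.comap_primeIdealOf_appLE V hV U hU e hηU)).trans ?_
    exact congrArg (fun w => (hV.primeIdealOf w).asIdeal) (Subtype.ext (map_genericPoint_of_isDominant f))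
  let B := Γ(X, U) ⧸ P
  have hker : RingHom.ker (algebraMap Γ(Y, V) B) = nilradical Γ(Y, V) := by
    rw [← hPc, IsScalarTower.algebraMap_eq Γ(Y, V) Γ(X, U) B, ← RingHom.comap_ker]
    congr 1
    exact Ideal.mk_ker
  let q0 := (hU.primeIdealOf ⟨x, hxU⟩).asIdeal
  let q : Ideal B := q0.map (Ideal.Quotient.mk P)
  haveI : q.IsPrime :=
    Ideal.map_isPrime_of_surjective Ideal.Quotient.mk_surjective (by rw [Ideal.mk_ker]; exact nilradical_le_prime q0)
  have hq0 : q.comap (Ideal.Quotient.mk P) = q0 := by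
    rw [Ideal.comap_map_of_surjective _ Ideal.Quotient.mk_surjective, ← RingHom.ker_eq_comap_bot,
      Ideal.mk_ker, sup_eq_left.2 (nilradical_le_prime q0)]
  haveI : Algebra.QuasiFinite Γ(Y, V) B :=
    Algebra.QuasiFinite.of_surjective_algHom (Ideal.Quotient.mkₐ Γ(Y, V) P) Ideal.Quotient.mk_surjective
  let _ := (Y.presheaf.germ V (f x) hxV).hom.toAlgebra
  haveI := hV.isLocalization_stalk ⟨f x, hxV⟩
  have hqp : q.comap (algebraMap Γ(Y, V) B) = (hV.primeIdealOf ⟨f x, hxV⟩).asIdeal := by
    rw [IsScalarTower.algebraMap_eq Γ(Y, V) Γ(X, U) B, ← Ideal.comap_comap,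
      show q.comap (algebraMap Γ(X, U) B) = q0 from hq0, RingHom.algebraMap_toAlgebra]
    exact congrArg PrimeSpectrum.asIdeal (IsAffineOpen.comap_primeIdealOf_appLE V hV U hU e hxU)
  have hy' : y' ∈ V := h.mem_open V.isOpen hxV
  obtain ⟨q', hq', hle, hc⟩ := exists_le_comap_eq_of_quasiFinite hker q _ hqp hy
    (hV.primeIdealOf ⟨y', hy'⟩).asIdeal ((primeIdealOf_le_iff' hV _ _).2 h)
  let Q : PrimeSpectrum Γ(X, U) := ⟨q'.comap (Ideal.Quotient.mk P), Ideal.comap_isPrime _ _⟩
  have hmem : hU.fromSpec Q ∈ U := hU.range_fromSpec.le ⟨Q, rfl⟩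
  have hQ : hU.primeIdealOf ⟨_, hmem⟩ = Q := hU.fromSpec.isOpenEmbedding.injective (hU.fromSpec_primeIdealOf _)
  refine ⟨hU.fromSpec Q, (primeIdealOf_le_iff' hU ⟨_, hmem⟩ ⟨x, hxU⟩).1 ?_, ?_⟩
  · rw [hQ]; exact (Ideal.comap_mono hle).trans hq0.le
  · have h1 := IsAffineOpen.comap_primeIdealOf_appLE V hV U hU e hmem
    rw [hQ] at h1
    have h2 : (hV.primeIdealOf ⟨f (hU.fromSpec Q), e hmem⟩).asIdeal = (hV.primeIdealOf ⟨y', hy'⟩).asIdeal := by
      rw [← congrArg PrimeSpectrum.asIdeal h1, ← hc, IsScalarTower.algebraMap_eq Γ(Y, V) Γ(X, U) B,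
        ← Ideal.comap_comap, RingHom.algebraMap_toAlgebra]
      rfl
    have h3 := congrArg hV.fromSpec (PrimeSpectrum.ext h2)
    rwa [hV.fromSpec_primeIdealOf, hV.fromSpec_primeIdealOf] at h3

end Groth.Agent.EGA43.Unibranch
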