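import Groth.Prelude.Def_CAlg2
import Mathlib.RingTheory.Localization.Integral
import Mathlib.RingTheory.IntegralClosure.IntegrallyClosed
import Mathlib.Algebra.CharP.Algebra
import Mathlib.RingTheory.LocalRing.ResidueField.Basic

/-!
# A criterion for geometrically unibranch local rings, with nilpotents
-/

set_option autoImplicit false
set_option backward.isDefEq.respectTransparency false
set_option linter.style.haveILetI false

universe u

namespace Groth.Agent.EGA43.Unibranch

open IsLocalRing

/-- A local normal domain which is integral, birational and radicial at the closed point over the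
reduction shows that a local ring is geometrically unibranch. -/
theorem isGeomUnibranch_of_normalization {A C : Type u} [CommRing A] [IsLocalRing A] [CommRing C]
    [IsDomain C] [IsLocalRing C] [IsIntegrallyClosed C] [Algebra A C] [Algebra.IsIntegral A C]
    (hker : RingHom.ker (algebraMap A C) = nilradical A)
    (hbir : ∀ c : C, ∃ s : A, s ∉ nilradical A ∧ ∃ a : A, algebraMap A C s * c = algebraMap A C a)
    (hins : ∀ x : C ⧸ maximalIdeal C, ∃ n : ℕ,
      x ^ ringExpChar (C ⧸ maximalIdeal C) ^ n ∈
        ((Ideal.Quotient.mk (maximalIdeal C)).comp (algebraMap A C)).range) :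
    CAlg2.IsGeomUnibranch A := by
  let R := CAlg2.red A
  let κ : R →+* C :=
    Ideal.Quotient.lift (nilradical A) (algebraMap A C) fun a ha => RingHom.mem_ker.1 (hker.symm ▸ ha)
  have hκ : Function.Injective κ := Ideal.injective_lift_iff _ |>.2 hker
  let _ : Algebra R C := κ.toAlgebra
  haveI : IsScalarTower A R C := .of_algebraMap_eq fun a => (Ideal.Quotient.lift_mk _ _ _).symm
  haveI : Algebra.IsIntegral R C := Algebra.IsIntegral.tower_top A
  haveI : IsDomain R := hκ.isDomain κ
  let L := FractionRing C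
  have hRL : Function.Injective (algebraMap R L) := by
    rw [IsScalarTower.algebraMap_eq R C L]
    exact (IsFractionRing.injective C L).comp hκ
  haveI : FaithfulSMul R L := (faithfulSMul_iff_algebraMap_injective R L).mpr hRL
  haveI : IsFractionRing R L := by
    refine IsFractionRing.of_field R L fun z => ?_
    obtain ⟨c, d, hd, rfl⟩ := IsFractionRing.div_surjective (A := C) z
    obtain ⟨s, hs, a, ha⟩ := hbir c
    obtain ⟨t, ht, b, hb⟩ := hbir d
    let m : A →+* R := Ideal.Quotient.mk (nilradical A)
    have hm : ∀ x ∉ nilradical A, algebraMap R L (m x) ≠ 0 := fun x hx =>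
      (map_ne_zero_iff _ hRL).mpr (fun h => hx (Ideal.Quotient.eq_zero_iff_mem.1 h))
    have hmC : ∀ x, algebraMap R C (m x) = algebraMap A C x := fun x => Ideal.Quotient.lift_mk _ _ _
    have hd0 : algebraMap C L d ≠ 0 := IsFractionRing.to_map_ne_zero_of_mem_nonZeroDivisors hd
    have ha' : algebraMap R L (m s) * algebraMap C L c = algebraMap R L (m a) := by
      rw [IsScalarTower.algebraMap_apply R C L, IsScalarTower.algebraMap_apply R C L, ← map_mul, hmC, hmC, ha]
    have hb' : algebraMap R L (m t) * algebraMap C L d = algebraMap R L (m b) := by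
      rw [IsScalarTower.algebraMap_apply R C L, IsScalarTower.algebraMap_apply R C L, ← map_mul, hmC, hmC, hb]
    refine ⟨m a * m t, m s * m b, ?_⟩
    rw [map_mul, map_mul, ← ha', ← hb', div_eq_div_iff hd0 (mul_ne_zero (hm s hs) (mul_ne_zero (hm t ht) hd0))]
    ring
  let Θ : FractionRing R ≃ₐ[R] L := FractionRing.algEquiv R L
  let h : C →+* CAlg2.normRed A :=
    ((Θ.symm.toRingHom.comp (algebraMap C L))).codRestrict (integralClosure R (FractionRing R)).toSubring fun c =>
      ((Algebra.IsIntegral.isIntegral (R := R) c).map (IsScalarTower.toAlgHom R C L)).map Θ.symm.toAlgHom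
  have hh : Function.Bijective h := by
    refine ⟨fun a b hab => IsFractionRing.injective C L (Θ.symm.injective (congrArg Subtype.val hab)), ?_⟩
    rintro ⟨z, hz⟩
    obtain ⟨c, hc⟩ := IsIntegrallyClosed.isIntegral_iff.mp ((hz.map Θ.toAlgHom).tower_top (A := C))
    exact ⟨c, Subtype.ext (show Θ.symm (algebraMap C L c) = z by rw [hc]; exact Θ.symm_apply_apply z)⟩
  let E := RingEquiv.ofBijective h hh
  haveI : IsLocalRing (CAlg2.normRed A) := IsLocalRing.of_surjective' E.toRingHom E.surjective
  refine ⟨⟨inferInstance, inferInstance⟩, fun m' hm' x => ?_⟩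
  have hm : maximalIdeal C = m'.comap h := (IsLocalRing.eq_maximalIdeal
    (Ideal.comap_isMaximal_of_surjective h hh.2)).symm
  let q : C ⧸ maximalIdeal C →+* CAlg2.normRed A ⧸ m' := Ideal.quotientMap m' h hm.le
  haveI : Nontrivial (CAlg2.normRed A ⧸ m') := Ideal.Quotient.nontrivial_iff.mpr hm'.ne_top
  letI := Ideal.Quotient.field (maximalIdeal C)
  letI := Ideal.Quotient.field m'
  haveI : ExpChar (CAlg2.normRed A ⧸ m') (ringExpChar (C ⧸ maximalIdeal C)) :=
    expChar_of_injective_ringHom q.injective _
  obtain ⟨z, rfl⟩ := Ideal.Quotient.mk_surjective x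
  obtain ⟨c, rfl⟩ := hh.2 z
  obtain ⟨n, a, ha⟩ := hins (Ideal.Quotient.mk _ c)
  refine ⟨n, a, ?_⟩
  rw [ringExpChar.eq (CAlg2.normRed A ⧸ m') (ringExpChar (C ⧸ maximalIdeal C))]
  have h2 := congrArg q ha
  rw [map_pow] at h2
  refine Eq.trans ?_ h2
  show Ideal.Quotient.mk m' (algebraMap R (CAlg2.normRed A) (Ideal.Quotient.mk _ a)) =
    Ideal.Quotient.mk m' (h (algebraMap A C a))
  congr 1
  refine Subtype.ext ?_
  show algebraMap R (FractionRing R) (Ideal.Quotient.mk _ a) = Θ.symm (algebraMap C L (algebraMap A C a))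
  rw [IsScalarTower.algebraMap_apply A R C, ← IsScalarTower.algebraMap_apply R C L, AlgEquiv.commutes]
  rfl

/-- The normalisation of a geometrically unibranch local ring. -/
theorem exists_normalization {A : Type u} [CommRing A] [IsLocalRing A] (hA : CAlg2.IsGeomUnibranch A) :
    ∃ (C : Type u) (_ : CommRing C) (_ : IsDomain C) (_ : IsLocalRing C) (_ : IsIntegrallyClosed C)
      (_ : Algebra A C) (_ : Algebra.IsIntegral A C), RingHom.ker (algebraMap A C) = nilradical A ∧
      (∀ c : C, ∃ s : A, s ∉ nilradical A ∧ ∃ a : A, algebraMap A C s * c = algebraMap A C a) ∧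
      (∀ x : C ⧸ maximalIdeal C, ∃ n : ℕ, x ^ ringExpChar (C ⧸ maximalIdeal C) ^ n ∈
        ((Ideal.Quotient.mk (maximalIdeal C)).comp (algebraMap A C)).range) := by
  obtain ⟨⟨hdom, hloc⟩, hins⟩ := hA
  haveI := hdom
  haveI := hloc
  haveI : IsIntegrallyClosed (CAlg2.normRed A) :=
    integralClosure.isIntegrallyClosedOfFiniteExtension (FractionRing (CAlg2.red A))
  haveI : Algebra.IsIntegral A (CAlg2.normRed A) := Algebra.IsIntegral.trans (CAlg2.red A)
  have hRC : Function.Injective (algebraMap (CAlg2.red A) (CAlg2.normRed A)) := fun a b h =>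
    IsFractionRing.injective (CAlg2.red A) (FractionRing (CAlg2.red A)) (congrArg Subtype.val h)
  refine ⟨CAlg2.normRed A, inferInstance, inferInstance, inferInstance, inferInstance, inferInstance,
    inferInstance, ?_, fun c => ?_, fun x => hins _ x⟩
  · ext a
    rw [RingHom.mem_ker, IsScalarTower.algebraMap_apply A (CAlg2.red A) (CAlg2.normRed A),
      map_eq_zero_iff _ hRC]
    exact Ideal.Quotient.eq_zero_iff_mem
  · obtain ⟨x, y, hy, hc⟩ := IsFractionRing.div_surjective (A := CAlg2.red A) c.1
    obtain ⟨s, rfl⟩ := Ideal.Quotient.mk_surjective y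
    obtain ⟨a, rfl⟩ := Ideal.Quotient.mk_surjective x
    refine ⟨s, fun h => nonZeroDivisors.ne_zero hy (Ideal.Quotient.eq_zero_iff_mem.2 h), a, Subtype.ext ?_⟩
    show algebraMap (CAlg2.red A) (FractionRing (CAlg2.red A)) (Ideal.Quotient.mk _ s) * c.1 =
      algebraMap (CAlg2.red A) (FractionRing (CAlg2.red A)) (Ideal.Quotient.mk _ a)
    rw [← hc, mul_div_cancel₀ _ (IsFractionRing.to_map_ne_zero_of_mem_nonZeroDivisors hy)]

/-- Being geometrically unibranch is invariant under isomorphisms. -/
theorem isGeomUnibranch_of_ringEquiv {A B : Type u} [CommRing A] [IsLocalRing A] [CommRing B]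
    [IsLocalRing B] (e : A ≃+* B) (hA : CAlg2.IsGeomUnibranch A) : CAlg2.IsGeomUnibranch B := by
  obtain ⟨C, _, _, _, _, _, _, hker, hbir, hins⟩ := exists_normalization hA
  let _ : Algebra B C := ((algebraMap A C).comp e.symm.toRingHom).toAlgebra
  have hmap : ∀ b, algebraMap B C b = algebraMap A C (e.symm b) := fun _ => rfl
  haveI : Algebra.IsIntegral B C :=
    ⟨RingHom.IsIntegral.trans e.symm.toRingHom _
      (RingHom.isIntegral_of_surjective _ e.symm.surjective)
      (Algebra.IsIntegral.isIntegral (R := A) (A := C))⟩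
  have hnil : ∀ b : B, b ∈ nilradical B ↔ e.symm b ∈ nilradical A := fun b => by
    rw [mem_nilradical, mem_nilradical, IsNilpotent.map_iff e.symm.injective]
  refine isGeomUnibranch_of_normalization (C := C) ?_ (fun c => ?_) fun x => ?_
  · ext b
    rw [RingHom.mem_ker, hmap, hnil, ← hker, RingHom.mem_ker]
  · obtain ⟨s, hs, a, ha⟩ := hbir c
    exact ⟨e s, fun h => hs (by simpa using (hnil _).1 h), e a, by simpa [hmap] using ha⟩
  · obtain ⟨n, a, ha⟩ := hins x
    exact ⟨n, e a, by rw [RingHom.comp_apply, hmap, e.symm_apply_apply]; exact ha⟩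

end Groth.Agent.EGA43.Unibranch
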