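import Groth.Prelude.Def_CAlg2
import Mathlib.RingTheory.Ideal.GoingDown
import Mathlib.RingTheory.IntegralClosure.GoingDown
import Mathlib.RingTheory.IntegralClosure.IsIntegralClosure.Basic
import Mathlib.RingTheory.Ideal.GoingUp

/-!
# Going down along integral extensions of unibranch local rings
-/

set_option autoImplicit false
set_option backward.isDefEq.respectTransparency false
set_option linter.style.haveILetI false

universe u

namespace Groth.Agent.EGA43.Unibranch

/-- Over a unibranch local ring, generizations lift along integral algebras without zero divisors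
which dominate. -/
theorem exists_le_comap_eq_of_isUnibranch {A B : Type u} [CommRing A] [IsLocalRing A]
    (hA : CAlg2.IsUnibranch A) [CommRing B] [IsDomain B] [Algebra A B]
    (hker : RingHom.ker (algebraMap A B) = nilradical A) [Algebra.IsIntegral A B] (n : Ideal B)
    [n.IsPrime] (hn : n.comap (algebraMap A B) = IsLocalRing.maximalIdeal A) (p : Ideal A) [p.IsPrime] :
    ∃ q : Ideal B, q.IsPrime ∧ q ≤ n ∧ q.comap (algebraMap A B) = p := by
  obtain ⟨hdom, hloc⟩ := hA
  haveI := hdom
  haveI := hloc
  let R := CAlg2.red A
  let κ : R →+* B :=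
    Ideal.Quotient.lift (nilradical A) (algebraMap A B) fun a ha => RingHom.mem_ker.1 (hker.symm ▸ ha)
  have hκ : Function.Injective κ := Ideal.injective_lift_iff _ |>.2 hker
  let _ : Algebra R B := κ.toAlgebra
  haveI : IsScalarTower A R B := .of_algebraMap_eq fun a => (Ideal.Quotient.lift_mk _ _ _).symm
  haveI : Algebra.IsIntegral R B := Algebra.IsIntegral.tower_top A
  let L := FractionRing B
  haveI : IsScalarTower R B L := inferInstance
  have hRL : Function.Injective (algebraMap R L) := by
    rw [IsScalarTower.algebraMap_eq R B L]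
    exact (IsFractionRing.injective B L).comp hκ
  haveI : FaithfulSMul R L := (faithfulSMul_iff_algebraMap_injective R L).2 hRL
  let _ : Algebra (FractionRing R) L := FractionRing.liftAlgebra R L
  let A' := CAlg2.normRed A
  let C := integralClosure R L
  haveI : IsIntegrallyClosed A' := integralClosure.isIntegrallyClosedOfFiniteExtension (FractionRing R)
  let _ : Algebra B C := ((algebraMap B L).codRestrict C.toSubring fun b =>
    (Algebra.IsIntegral.isIntegral (R := R) b).map (IsScalarTower.toAlgHom R B L)).toAlgebra
  haveI : IsScalarTower R B C := .of_algebraMap_eq fun r =>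
    Subtype.ext (IsScalarTower.algebraMap_apply R B L r)
  let ι : FractionRing R →ₐ[R] L := IsScalarTower.toAlgHom R (FractionRing R) L
  let _ : Algebra A' C := ((ι.comp (integralClosure R (FractionRing R)).val).codRestrict C fun a =>
    (a.2 : IsIntegral R (a : FractionRing R)).map ι).toRingHom.toAlgebra
  haveI : IsScalarTower R A' C := .of_algebraMap_eq fun r => Subtype.ext (ι.commutes r).symm
  haveI : Algebra.IsIntegral A' C := Algebra.IsIntegral.tower_top R
  haveI : Algebra.IsIntegral B C := Algebra.IsIntegral.tower_top R
  haveI : FaithfulSMul A' C := (faithfulSMul_iff_algebraMap_injective A' C).2 fun a b h =>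
    Subtype.ext (ι.toRingHom.injective (congrArg Subtype.val h))
  have hBC : Function.Injective (algebraMap B C) := fun a b h =>
    IsFractionRing.injective B L (congrArg Subtype.val h)
  obtain ⟨n', -, hn', hn'n⟩ := Ideal.exists_ideal_over_prime_of_isIntegral n (⊥ : Ideal C)
    (by intro b hb; rw [Ideal.mem_comap, Ideal.mem_bot, map_eq_zero_iff _ hBC] at hb
        rw [hb]; exact zero_mem n)
  haveI := hn'
  let pbar : Ideal R := p.map (Ideal.Quotient.mk (nilradical A))
  have hle : nilradical A ≤ p := nilradical_le_prime p
  haveI : pbar.IsPrime := Ideal.map_isPrime_of_surjective Ideal.Quotient.mk_surjective (by rwa [Ideal.mk_ker])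
  have hpbar : pbar.comap (Ideal.Quotient.mk (nilradical A)) = p := by
    rw [Ideal.comap_map_of_surjective _ Ideal.Quotient.mk_surjective, ← RingHom.ker_eq_comap_bot,
      Ideal.mk_ker, sup_eq_left.2 hle]
  haveI : Algebra.IsIntegral R A' := inferInstance
  obtain ⟨p', -, hp', hp'R⟩ := Ideal.exists_ideal_over_prime_of_isIntegral pbar (⊥ : Ideal A')
    (by intro r hr
        rw [Ideal.mem_comap, Ideal.mem_bot, map_eq_zero_iff _ (FaithfulSMul.algebraMap_injective R A')] at hr
        rw [hr]; exact zero_mem _)
  haveI := hp'
  let m' := n'.comap (algebraMap A' C)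
  have hmax : m'.IsMaximal := by
    haveI : (m'.comap (algebraMap R A')).IsMaximal := by
      rw [Ideal.comap_comap, ← IsScalarTower.algebraMap_eq R A' C, IsScalarTower.algebraMap_eq R B C,
        ← Ideal.comap_comap, hn'n]
      have : n.comap (algebraMap R B) = (IsLocalRing.maximalIdeal A).map (Ideal.Quotient.mk (nilradical A)) := by
        rw [← hn, IsScalarTower.algebraMap_eq A R B, ← Ideal.comap_comap]
        exact (Ideal.map_comap_of_surjective _ Ideal.Quotient.mk_surjective _).symm
      rw [this]
      exact Ideal.IsMaximal.map_of_surjective_of_ker_le Ideal.Quotient.mk_surjective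
        (by rw [Ideal.mk_ker]; exact nilradical_le_prime _)
    exact Ideal.isMaximal_of_isIntegral_of_isMaximal_comap (R := R) m' inferInstance
  have hp'le : p' ≤ m' := by
    rw [IsLocalRing.eq_maximalIdeal hmax]; exact IsLocalRing.le_maximalIdeal hp'.ne_top
  haveI : n'.LiesOver m' := ⟨rfl⟩
  obtain ⟨q', hq'le, hq', hq'p⟩ := Ideal.exists_ideal_le_liesOver_of_le n' hp'le
  haveI := hq'
  refine ⟨q'.comap (algebraMap B C), inferInstance, (Ideal.comap_mono hq'le).trans hn'n.le, ?_⟩
  rw [← hpbar, IsScalarTower.algebraMap_eq A R B, ← Ideal.comap_comap]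
  refine congrArg (Ideal.comap (Ideal.Quotient.mk (nilradical A))) ?_
  rw [← hp'R, Ideal.comap_comap, ← IsScalarTower.algebraMap_eq R B C,
    IsScalarTower.algebraMap_eq R A' C, ← Ideal.comap_comap, ← Ideal.under_def, ← Ideal.under_def,
    ← hq'p.over]

end Groth.Agent.EGA43.Unibranch
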