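import Groth.Agent.EGA43.Unibranch.Criterion
import Groth.Agent.Desc19b.NormalSmooth
import Mathlib.RingTheory.Polynomial.Basic
import Mathlib.RingTheory.MvPolynomial.Localization
import Mathlib.RingTheory.Localization.LocalizationLocalization
import Mathlib.RingTheory.MvPolynomial.Ideal
import Mathlib.Algebra.MvPolynomial.Nilpotent

/-!
# Polynomial algebras over geometrically unibranch local rings are geometrically unibranch
-/

set_option autoImplicit false
set_option backward.isDefEq.respectTransparency false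
set_option linter.style.haveILetI false

universe u

namespace Groth.Agent.EGA43.Unibranch

open IsLocalRing MvPolynomial

theorem isIntegral_map {A C σ : Type u} [CommRing A] [CommRing C] [Algebra A C] [Algebra.IsIntegral A C] :
    (MvPolynomial.map (σ := σ) (algebraMap A C)).IsIntegral := by
  intro z
  induction z using MvPolynomial.induction_on with
  | C c =>
    obtain ⟨f, hf, h⟩ := Algebra.IsIntegral.isIntegral (R := A) c
    refine ⟨f.map MvPolynomial.C, hf.map _, ?_⟩
    rw [Polynomial.eval₂_map,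
      show (MvPolynomial.map (σ := σ) (algebraMap A C)).comp MvPolynomial.C =
        (MvPolynomial.C).comp (algebraMap A C) from RingHom.ext fun a => MvPolynomial.map_C _ a,
      ← Polynomial.hom_eval₂, h, map_zero]
  | add p q hp hq => exact hp.add _ hq
  | mul_X p i hp =>
    exact hp.mul _ ⟨Polynomial.X - Polynomial.C (MvPolynomial.X i), Polynomial.monic_X_sub_C _,
      by simp [MvPolynomial.map_X]⟩

theorem exists_mul_eq_map {A C σ : Type u} [CommRing A] [CommRing C] [Algebra A C]
    (hbir : ∀ c : C, ∃ s : A, algebraMap A C s ≠ 0 ∧ ∃ a : A, algebraMap A C s * c = algebraMap A C a)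
    [IsDomain C] (z : MvPolynomial σ C) : ∃ (s : A) (a : MvPolynomial σ A), algebraMap A C s ≠ 0 ∧
      MvPolynomial.C (algebraMap A C s) * z = MvPolynomial.map (algebraMap A C) a := by
  induction z using MvPolynomial.induction_on with
  | C c =>
    obtain ⟨s, hs, a, ha⟩ := hbir c
    exact ⟨s, MvPolynomial.C a, hs, by rw [← map_mul, ha, MvPolynomial.map_C]⟩
  | add p q hp hq =>
    obtain ⟨s, a, hs, ha⟩ := hp
    obtain ⟨t, b, ht, hb⟩ := hq
    refine ⟨s * t, MvPolynomial.C t * a + MvPolynomial.C s * b, by rw [map_mul]; exact mul_ne_zero hs ht, ?_⟩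
    simp only [map_mul, map_add, MvPolynomial.map_C, ← ha, ← hb]
    ring
  | mul_X p i hp =>
    obtain ⟨s, a, hs, ha⟩ := hp
    refine ⟨s, a * MvPolynomial.X i, hs, ?_⟩
    rw [map_mul, MvPolynomial.map_X, ← ha, mul_assoc]

/-- Radicial residue field extensions stay radicial after adjoining indeterminates. -/
theorem exists_pow_sub_mem {A C : Type u} {σ : Type u} [CommRing A] [CommRing C] [IsLocalRing C] [Algebra A C]
    (hins : ∀ x : C ⧸ maximalIdeal C, ∃ n : ℕ, x ^ ringExpChar (C ⧸ maximalIdeal C) ^ n ∈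
      ((Ideal.Quotient.mk (maximalIdeal C)).comp (algebraMap A C)).range)
    (z : MvPolynomial σ C) : ∃ (n : ℕ) (a : MvPolynomial σ A),
      z ^ ringExpChar (C ⧸ maximalIdeal C) ^ n - MvPolynomial.map (algebraMap A C) a ∈
        (maximalIdeal C).map (MvPolynomial.C (σ := σ)) := by
  letI := Ideal.Quotient.field (maximalIdeal C)
  set e := ringExpChar (C ⧸ maximalIdeal C)
  let μ := MvPolynomial.map (σ := σ) (Ideal.Quotient.mk (maximalIdeal C))
  have hμ : RingHom.ker μ = (maximalIdeal C).map MvPolynomial.C := by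
    rw [MvPolynomial.ker_map, Ideal.mk_ker]
  suffices ∃ (n : ℕ) (a : MvPolynomial σ A), μ z ^ e ^ n = μ (MvPolynomial.map (algebraMap A C) a) by
    obtain ⟨n, a, h⟩ := this
    exact ⟨n, a, by rw [← hμ, RingHom.mem_ker, map_sub, map_pow, h, sub_self]⟩
  induction z using MvPolynomial.induction_on with
  | C c =>
    obtain ⟨n, a, ha⟩ := hins (Ideal.Quotient.mk _ c)
    refine ⟨n, MvPolynomial.C a, ?_⟩
    rw [MvPolynomial.map_C, MvPolynomial.map_C, MvPolynomial.map_C, ← map_pow]
    exact congrArg _ ha.symm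
  | add p q hp hq =>
    obtain ⟨m, a, ha⟩ := hp
    obtain ⟨n, b, hb⟩ := hq
    refine ⟨m + n, a ^ e ^ n + b ^ e ^ m, ?_⟩
    haveI : ExpChar (MvPolynomial σ (C ⧸ maximalIdeal C)) e :=
      expChar_of_injective_ringHom (MvPolynomial.C_injective σ (C ⧸ maximalIdeal C)) e
    rw [map_add, add_pow_expChar_pow, map_add, map_add, map_pow, map_pow, map_pow, map_pow, ← ha, ← hb,
      ← pow_mul, ← pow_mul, ← pow_add, ← pow_add, Nat.add_comm m n]
  | mul_X p i hp =>
    obtain ⟨n, a, ha⟩ := hp
    refine ⟨n, a * MvPolynomial.X i ^ e ^ n, ?_⟩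
    rw [map_mul, mul_pow, ha, map_mul, map_mul, map_pow, map_pow, MvPolynomial.map_X, MvPolynomial.map_X, MvPolynomial.map_X]

/-- The local rings of a polynomial algebra at primes over the closed point of a geometrically
unibranch local ring are geometrically unibranch. -/
theorem isGeomUnibranch_mvPolynomial {A : Type u} [CommRing A] [IsLocalRing A]
    (hA : CAlg2.IsGeomUnibranch A) (e : ℕ) (q : Ideal (MvPolynomial (ULift.{u} (Fin e)) A)) [q.IsPrime]
    (hq : q.comap MvPolynomial.C = maximalIdeal A) (T : Type u) [CommRing T] [IsLocalRing T]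
    [Algebra (MvPolynomial (ULift.{u} (Fin e)) A) T] [IsLocalization.AtPrime T q] :
    CAlg2.IsGeomUnibranch T := by
  obtain ⟨C, _, _, _, _, _, _, hker, hbir, hins⟩ := exists_normalization hA
  let P := MvPolynomial (ULift.{u} (Fin e)) A
  let D := MvPolynomial (ULift.{u} (Fin e)) C
  haveI : IsIntegrallyClosed D :=
    haveI := Desc19b.isIntegrallyClosed_mvPolynomial_fin' C e
    IsIntegrallyClosed.of_equiv (MvPolynomial.renameEquiv C Equiv.ulift.symm).toRingEquiv
  let φ : P →+* D := MvPolynomial.map (algebraMap A C)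
  let _ : Algebra P D := φ.toAlgebra
  haveI : Algebra.IsIntegral P D := ⟨isIntegral_map (A := A) (C := C)⟩
  have hkerP : RingHom.ker φ ≤ q := by
    rw [MvPolynomial.ker_map, Ideal.map_le_iff_le_comap, hq, hker]
    exact nilradical_le_prime _
  let M := Algebra.algebraMapSubmonoid D q.primeCompl
  have hM : M ≤ nonZeroDivisors D := by
    rintro _ ⟨s, hs, rfl⟩
    exact mem_nonZeroDivisors_of_ne_zero fun h => hs (hkerP h)
  let C' := Localization M
  haveI : IsDomain C' := IsLocalization.isDomain_localization hM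
  haveI : IsIntegrallyClosed C' := isIntegrallyClosed_of_isLocalization C' M hM
  let ψ : T →+* C' := IsLocalization.map C' φ (show q.primeCompl ≤ M.comap φ from q.primeCompl.le_comap_map)
  let _ : Algebra T C' := ψ.toAlgebra
  haveI : Algebra.IsIntegral T C' :=
    ⟨isIntegral_localization (R := P) (S := D) (M := q.primeCompl) (Rₘ := T) (Sₘ := C')⟩
  have hψ : ∀ x, ψ (algebraMap P T x) = algebraMap D C' (φ x) := IsLocalization.map_eq _
  have hinj : Function.Injective (algebraMap D C') := IsLocalization.injective C' hM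
  -- the primes over `q`
  have huniq : ∀ Q₁ Q₂ : Ideal D, Q₁.IsPrime → Q₂.IsPrime → Q₁.comap φ = q → Q₂.comap φ = q → Q₁ ≤ Q₂ := by
    intro Q₁ Q₂ h₁ h₂ e₁ e₂ z hz
    have hmem : ∀ Q : Ideal D, Q.IsPrime → Q.comap φ = q →
        (maximalIdeal C).map MvPolynomial.C ≤ Q := by
      intro Q hQ hQq
      rw [Ideal.map_le_iff_le_comap]
      have hm : ((Q.comap MvPolynomial.C).comap (algebraMap A C)).IsMaximal := by
        rw [Ideal.comap_comap, show (MvPolynomial.C).comp (algebraMap A C) =
            φ.comp MvPolynomial.C from RingHom.ext fun a => (MvPolynomial.map_C _ a).symm,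
          ← Ideal.comap_comap, hQq, hq]
        infer_instance
      haveI := hQ
      exact (IsLocalRing.eq_maximalIdeal
        (Ideal.isMaximal_of_isIntegral_of_isMaximal_comap (R := A) _ hm)).ge
    obtain ⟨n, a, ha⟩ := exists_pow_sub_mem hins z
    have hzn : z ^ ringExpChar (C ⧸ maximalIdeal C) ^ n ∈ Q₁ := Ideal.pow_mem_of_mem _ hz _
      (Nat.pos_of_ne_zero (by
        letI := Ideal.Quotient.field (maximalIdeal C)
        exact pow_ne_zero _ (expChar_ne_zero (C ⧸ maximalIdeal C) _)))
    have h3 : a ∈ q := by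
      rw [← e₁, Ideal.mem_comap]
      have := Q₁.sub_mem hzn (hmem Q₁ h₁ e₁ ha)
      rwa [sub_sub_cancel] at this
    have h4 : z ^ ringExpChar (C ⧸ maximalIdeal C) ^ n ∈ Q₂ := by
      have h5 : φ a ∈ Q₂ := by rw [← Ideal.mem_comap, e₂]; exact h3
      have := Q₂.add_mem (hmem Q₂ h₂ e₂ ha) h5
      rwa [sub_add_cancel] at this
    exact h₂.mem_of_pow_mem _ h4
  have hover : ∀ J : Ideal C', J.IsMaximal → (J.comap (algebraMap D C')).comap φ = q := by
    intro J hJ
    have h1 : (J.comap ψ).IsMaximal := Ideal.isMaximal_comap_of_isIntegral_of_isMaximal (R := T) J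
    ext x
    rw [Ideal.mem_comap, Ideal.mem_comap, ← hψ, ← Ideal.mem_comap, IsLocalRing.eq_maximalIdeal h1]
    exact IsLocalization.AtPrime.to_map_mem_maximal_iff T q x
  haveI : IsLocalRing C' := by
    obtain ⟨J, hJ⟩ := Ideal.exists_maximal C'
    refine IsLocalRing.of_unique_max_ideal ⟨J, hJ, fun J' hJ' => ?_⟩
    have h := le_antisymm
      (huniq _ _ (Ideal.comap_isPrime _ J') (Ideal.comap_isPrime _ J) (hover J' hJ') (hover J hJ))
      (huniq _ _ (Ideal.comap_isPrime _ J) (Ideal.comap_isPrime _ J') (hover J hJ) (hover J' hJ'))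
    rw [← IsLocalization.map_comap M C' J', ← IsLocalization.map_comap M C' J]
    exact congrArg (Ideal.map _) h
  refine isGeomUnibranch_of_normalization (A := T) (C := C') ?_ ?_ ?_
  · refine le_antisymm (fun x hx => ?_) (fun x hx => RingHom.mem_ker.2
      (IsNilpotent.eq_zero ((mem_nilradical.1 hx).map (algebraMap T C'))))
    obtain ⟨a, s, rfl⟩ := IsLocalization.exists_mk'_eq q.primeCompl x
    have ha : φ a = 0 := hinj (by
      rw [map_zero, ← hψ, ← IsLocalization.mk'_spec T a s, map_mul,
        show ψ (IsLocalization.mk' T a s) = 0 from hx, zero_mul])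
    have hnil : IsNilpotent a := by
      rw [MvPolynomial.isNilpotent_iff]
      intro i
      have := congrArg (MvPolynomial.coeff i) ha
      rw [MvPolynomial.coeff_map, MvPolynomial.coeff_zero] at this
      exact mem_nilradical.1 (hker.le this)
    rw [mem_nilradical, IsLocalization.mk'_eq_mul_mk'_one]
    exact Commute.isNilpotent_mul_right (Commute.all _ _) (hnil.map _)
  · intro c
    obtain ⟨⟨z, ⟨_, s, hs, rfl⟩⟩, hc⟩ := IsLocalization.surj M c
    obtain ⟨t, a, ht, hta⟩ := exists_mul_eq_map
      (fun c => let ⟨s, hs, h⟩ := hbir c; ⟨s, fun h0 => hs (hker.le h0), h⟩) z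
    have hne : algebraMap T C' (algebraMap P T (MvPolynomial.C t * s)) ≠ 0 := by
      show ψ _ ≠ 0
      rw [hψ, Ne, map_eq_zero_iff _ hinj, map_mul, MvPolynomial.map_C]
      refine mul_ne_zero (fun h => ht (MvPolynomial.C_injective _ _ (h.trans (map_zero _).symm))) ?_
      exact fun h => hs (hkerP h)
    refine ⟨algebraMap P T (MvPolynomial.C t * s), fun h => hne (IsNilpotent.eq_zero
      ((mem_nilradical.1 h).map (algebraMap T C'))), algebraMap P T a, ?_⟩
    show ψ _ * c = ψ _
    rw [hψ, hψ, map_mul φ, map_mul, show φ a = MvPolynomial.C (algebraMap A C t) * z from hta.symm,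
      map_mul (algebraMap D C'), MvPolynomial.map_C, mul_assoc, mul_comm (algebraMap D C' (φ s)) c]
    exact congrArg _ hc
  · letI := Ideal.Quotient.field (maximalIdeal C)
    letI := Ideal.Quotient.field (maximalIdeal C')
    have hle : maximalIdeal C ≤ (maximalIdeal C').comap ((algebraMap D C').comp MvPolynomial.C) := by
      have hm : (((maximalIdeal C').comap ((algebraMap D C').comp MvPolynomial.C)).comap (algebraMap A C)).IsMaximal := by
        rw [← Ideal.comap_comap, Ideal.comap_comap,
          show (MvPolynomial.C).comp (algebraMap A C) = φ.comp MvPolynomial.C from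
            RingHom.ext fun a => (MvPolynomial.map_C _ a).symm, ← Ideal.comap_comap,
          hover _ inferInstance, hq]
        infer_instance
      exact (IsLocalRing.eq_maximalIdeal (Ideal.isMaximal_of_isIntegral_of_isMaximal_comap (R := A) _ hm)).ge
    let j : C ⧸ maximalIdeal C →+* C' ⧸ maximalIdeal C' := Ideal.quotientMap _ _ hle
    haveI : ExpChar (C' ⧸ maximalIdeal C') (ringExpChar (C ⧸ maximalIdeal C)) :=
      expChar_of_injective_ringHom j.injective _
    intro x
    obtain ⟨y, rfl⟩ := Ideal.Quotient.mk_surjective x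
    obtain ⟨⟨z, ⟨_, s, hs, rfl⟩⟩, hy⟩ := IsLocalization.surj M y
    obtain ⟨n, a, ha⟩ := exists_pow_sub_mem hins z
    rw [ringExpChar.eq (C' ⧸ maximalIdeal C') (ringExpChar (C ⧸ maximalIdeal C))]
    set N := ringExpChar (C ⧸ maximalIdeal C) ^ n
    let s' : q.primeCompl := ⟨s, hs⟩ ^ N
    refine ⟨n, IsLocalization.mk' T a s', ?_⟩
    have h0 : ∀ w ∈ (maximalIdeal C).map (MvPolynomial.C (σ := ULift.{u} (Fin e))),
        algebraMap D C' w ∈ maximalIdeal C' := fun w hw => by
      have h : ((maximalIdeal C).map (MvPolynomial.C (σ := ULift.{u} (Fin e)))).map (algebraMap D C') ≤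
          maximalIdeal C' := by
        rw [Ideal.map_map]
        exact Ideal.map_le_iff_le_comap.2 hle
      exact h (Ideal.mem_map_of_mem _ hw)
    have h1 : Ideal.Quotient.mk (maximalIdeal C') (algebraMap D C' z ^ N) =
        Ideal.Quotient.mk (maximalIdeal C') (algebraMap D C' (φ a)) := by
      rw [Ideal.Quotient.mk_eq_mk_iff_sub_mem, ← map_pow, ← map_sub]
      exact h0 _ ha
    have hu : Ideal.Quotient.mk (maximalIdeal C') (algebraMap D C' (φ s) ^ N) ≠ 0 := by
      rw [Ne, Ideal.Quotient.eq_zero_iff_mem]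
      intro hmem
      exact (IsLocalRing.mem_maximalIdeal _).1 hmem
        ((IsLocalization.map_units C' (⟨_, s, hs, rfl⟩ : M)).pow N)
    refine mul_right_cancel₀ hu ?_
    rw [RingHom.comp_apply, ← map_mul, ← map_pow (Ideal.Quotient.mk _) y, ← map_mul, ← mul_pow,
      show algebraMap T C' (IsLocalization.mk' T a s') * algebraMap D C' (φ s) ^ N = algebraMap D C' (φ a) by
        show ψ _ * _ = _
        rw [← map_pow, ← map_pow φ, ← hψ, ← hψ, ← map_mul]
        exact congrArg ψ (IsLocalization.mk'_spec T a s'),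
      show y * algebraMap D C' (φ s) = algebraMap D C' z from hy, ← map_pow]
    rw [← map_pow] at h1
    exact h1.symm

end Groth.Agent.EGA43.Unibranch
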